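import Mathlib

/-!
# The line graph of the projective plane of order three has at most 11232 automorphisms
-/

set_option autoImplicit false

namespace Cfsg.Agent.Recognition.PlaneThree

/-- A flag `(p, j)` has point `p` and line `p - d j`. -/
abbrev Flag := Fin 13 × Fin 4

/-- The difference set. -/
def d : Fin 4 → Fin 13 := ![0, 1, 3, 9]

/-- The line of a flag. -/
def ln (f : Flag) : Fin 13 := f.1 - d f.2

/-- The incidence of points and lines. -/
def inc (p l : Fin 13) : Bool := p - l == 0 || p - l == 1 || p - l == 3 || p - l == 9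

/-- Two flags share a point or a line. -/
def fadj (f g : Flag) : Bool := inc f.1 (ln g) && inc g.1 (ln f)

theorem fadj_symm (f g : Flag) : fadj f g = fadj g f := Bool.and_comm _ _

theorem fadj_separates : ∀ f g : Flag, (∀ h, fadj f h = fadj g h) → f = g := by decide +kernel

/-- Two flags have distance at most two. -/
def fadj2 (f g : Flag) : Bool := inc f.1 (ln g) || inc g.1 (ln f)

theorem fadj2_iff : ∀ f g : Flag, fadj2 f g = true ↔ ∃ x, fadj f x = true ∧ fadj x g = true := by
  decide +kernel

/-- The automorphisms of the flag graph. -/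
def auts : Subgroup (Equiv.Perm Flag) where
  carrier := {π | ∀ f g, fadj (π f) (π g) = fadj f g}
  one_mem' := fun _ _ => rfl
  mul_mem' := fun {π ρ} hπ hρ f g => (hπ _ _).trans (hρ f g)
  inv_mem' := fun {π} hπ f g => by
    have h := hπ (π⁻¹ f) (π⁻¹ g)
    rwa [← Equiv.Perm.mul_apply, ← Equiv.Perm.mul_apply, mul_inv_cancel, Equiv.Perm.one_apply,
      Equiv.Perm.one_apply, eq_comm] at h

theorem auts_fadj2 {π : Equiv.Perm Flag} (hπ : π ∈ auts) (f g : Flag) :
    fadj2 (π f) (π g) = fadj2 f g := by
  rw [Bool.eq_iff_iff, fadj2_iff, fadj2_iff]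
  constructor
  · rintro ⟨x, h1, h2⟩
    obtain ⟨y, rfl⟩ := π.surjective x
    exact ⟨y, hπ f y ▸ h1, hπ y g ▸ h2⟩
  · rintro ⟨x, h1, h2⟩
    exact ⟨π x, (hπ f x).trans h1, (hπ x g).trans h2⟩

/-- All flags. -/
def flags : List Flag := (List.finRange 13).flatMap fun p => (List.finRange 4).map fun j => (p, j)

theorem mem_flags (f : Flag) : f ∈ flags := by
  revert f
  decide +kernel

/-- The base of the rigidity argument. -/
def base : List Flag := [(0, 0), (0, 1), (0, 2), (1, 1), (3, 2), (2, 2)]

/-- One round of propagation: a flag that no other flag imitates on the fixed ones is fixed. -/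
def step (F : List Flag) : List Flag :=
  flags.filter fun h => flags.all fun h' =>
    h' == h || F.any fun f => (h' == f) != (h == f) || fadj h' f != fadj h f || fadj2 h' f != fadj2 h f

theorem mem_step {F : List Flag} {h : Flag} (hh : h ∈ step F) {π : Equiv.Perm Flag} (hπ : π ∈ auts)
    (hF : ∀ f ∈ F, π f = f) : π h = h := by
  simp only [step, List.mem_filter, List.all_eq_true, Bool.or_eq_true, beq_iff_eq, List.any_eq_true,
    bne_iff_ne, ne_eq] at hh
  rcases hh.2 (π h) (mem_flags _) with e | ⟨f, hf, hne⟩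
  · exact e
  · have he : ((π h == f) : Bool) = (h == f) := by
      conv_lhs => rw [← hF f hf]
      rw [Bool.eq_iff_iff, beq_iff_eq, beq_iff_eq, EmbeddingLike.apply_eq_iff_eq]
    have ha : fadj (π h) f = fadj h f := by
      conv_lhs => rw [← hF f hf]
      exact hπ h f
    have hb : fadj2 (π h) f = fadj2 h f := by
      conv_lhs => rw [← hF f hf]
      exact auts_fadj2 hπ h f
    rcases hne with (h1 | h1) | h1
    · exact absurd he h1
    · exact absurd ha h1
    · exact absurd hb h1

theorem step_covers : (flags.all fun h => (step (step (step base))).contains h) = true := by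
  decide +kernel

theorem fix_all {π : Equiv.Perm Flag} (hπ : π ∈ auts) (hb : ∀ f ∈ base, π f = f) : π = 1 := by
  refine Equiv.ext fun h => ?_
  have h1 : h ∈ step (step (step base)) := by
    have := List.all_eq_true.1 step_covers h (mem_flags h)
    simpa using this
  exact mem_step h1 hπ fun f hf => mem_step hf hπ fun f hf => mem_step hf hπ hb

/-- The flags adjacent to `g` and different from it. -/
def nb (g : Flag) : List Flag := flags.filter fun x => x != g && fadj x g

/-- The possible images of the base. -/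
def images : List (Flag × Flag × Flag × Flag × Flag × Flag) :=
  flags.flatMap fun g0 => (nb g0).flatMap fun g1 =>
    ((nb g0).filter fun x => x != g1 && fadj x g1).flatMap fun g2 =>
    ((nb g0).filter fun x => !fadj x g1).flatMap fun g3 =>
    ((nb g0).filter fun x => x != g3 && fadj x g3).flatMap fun g4 =>
    ((nb g1).filter fun x => !fadj x g0).map fun g5 => (g0, g1, g2, g3, g4, g5)

theorem images_length : images.length = 11232 := by decide +kernel

theorem base_conditions :
    ((0, 1) != ((0, 0) : Flag) && fadj (0, 1) (0, 0) && ((0, 2) != ((0, 0) : Flag)) && fadj (0, 2) (0, 0) &&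
    ((0, 2) != ((0, 1) : Flag)) && fadj (0, 2) (0, 1) && ((1, 1) != ((0, 0) : Flag)) && fadj (1, 1) (0, 0) &&
    !fadj (1, 1) (0, 1) && ((3, 2) != ((0, 0) : Flag)) && fadj (3, 2) (0, 0) && ((3, 2) != ((1, 1) : Flag)) &&
    fadj (3, 2) (1, 1) && ((2, 2) != ((0, 1) : Flag)) && fadj (2, 2) (0, 1) && !fadj (2, 2) (0, 0)) = true := by
  decide +kernel

theorem card_auts_le : Nat.card auts ≤ 11232 := by
  classical
  let ev : auts → Flag × Flag × Flag × Flag × Flag × Flag := fun π =>
    ((π : Equiv.Perm Flag) (0, 0), (π : Equiv.Perm Flag) (0, 1), (π : Equiv.Perm Flag) (0, 2),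
      (π : Equiv.Perm Flag) (1, 1), (π : Equiv.Perm Flag) (3, 2), (π : Equiv.Perm Flag) (2, 2))
  have hne : ∀ (π : auts) {a b : Flag}, (a != b) = true →
      ((π : Equiv.Perm Flag) a != (π : Equiv.Perm Flag) b) = true := fun π {a b} h => by
    simp only [bne_iff_ne, ne_eq, EmbeddingLike.apply_eq_iff_eq] at h ⊢
    exact h
  have hmem : ∀ π : auts, ev π ∈ images.toFinset := by
    intro π
    have hadj : ∀ a b, fadj ((π : Equiv.Perm Flag) a) ((π : Equiv.Perm Flag) b) = fadj a b := π.2
    have hb := base_conditions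
    simp only [Bool.and_eq_true, Bool.not_eq_true'] at hb
    obtain ⟨⟨⟨⟨⟨⟨⟨⟨⟨⟨⟨⟨⟨⟨⟨n1, a1⟩, n2⟩, a2⟩, n21⟩, a21⟩, n3⟩, a3⟩, a31⟩, n4⟩, a4⟩, n43⟩, a43⟩, n5⟩, a5⟩, a50⟩ := hb
    simp only [ev, images, List.mem_toFinset, List.mem_flatMap, List.mem_map, List.mem_filter, nb,
      Bool.and_eq_true, Bool.not_eq_true']
    exact ⟨_, mem_flags _, _, ⟨mem_flags _, hne π n1, (hadj _ _).trans a1⟩,
      _, ⟨⟨mem_flags _, hne π n2, (hadj _ _).trans a2⟩, hne π n21, (hadj _ _).trans a21⟩,
      _, ⟨⟨mem_flags _, hne π n3, (hadj _ _).trans a3⟩, (hadj _ _).trans a31⟩,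
      _, ⟨⟨mem_flags _, hne π n4, (hadj _ _).trans a4⟩, hne π n43, (hadj _ _).trans a43⟩,
      _, ⟨⟨mem_flags _, hne π n5, (hadj _ _).trans a5⟩, (hadj _ _).trans a50⟩, rfl⟩
  have hinj : Function.Injective fun π : auts => (⟨ev π, hmem π⟩ : images.toFinset) := by
    intro π ρ e
    have e' : ev π = ev ρ := congrArg Subtype.val e
    simp only [ev, Prod.mk.injEq] at e'
    obtain ⟨e0, e1, e2, e3, e4, e5⟩ := e'
    refine inv_mul_eq_one.1 (Subtype.ext ?_) |>.symm
    refine fix_all (ρ⁻¹ * π).2 fun f hf => ?_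
    have key : (ρ : Equiv.Perm Flag) f = (π : Equiv.Perm Flag) f := by
      simp only [base, List.mem_cons, List.not_mem_nil, or_false] at hf
      rcases hf with rfl | rfl | rfl | rfl | rfl | rfl <;> exact Eq.symm (by assumption)
    simp [Equiv.Perm.mul_apply, ← key]
  calc Nat.card auts ≤ Nat.card images.toFinset := Nat.card_le_card_of_injective _ hinj
    _ ≤ images.length := by
      rw [Nat.card_eq_fintype_card, Fintype.card_coe]
      exact images.toFinset_card_le
    _ = 11232 := images_length

end Cfsg.Agent.Recognition.PlaneThree
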