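import Mathlib
import Cfsg.Agent.Recognition.PlaneThree.Comb

/-!
# Groups of order 5616 with the transvection pattern of `SL(3, 3)`

The elements with centralizer order divisible by 27 are labelled by a flag and a sign; conjugation then
embeds such a group into the automorphisms of the flag graph, where it has index at most two.
-/

set_option autoImplicit false

namespace Cfsg.Agent.Recognition.PlaneThree

open Subgroup

attribute [local irreducible] fadj

/-- The labels of the transvections. -/
abbrev Lab := Flag × Fin 2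

/-- The transvection pattern. -/
structure Config (G : Type*) [Group G] where
  τ : Lab → G
  inj : Function.Injective τ
  long : ∀ x : G, (x ≠ 1 ∧ 27 ∣ Nat.card (centralizer ({x} : Set G))) ↔ ∃ i, τ i = x
  comm : ∀ i j, τ i * τ j = τ j * τ i ↔ fadj i.1 j.1 = true
  sep : ∀ x : G, (∀ i, x * τ i = τ i * x) → x = 1
  card : Nat.card G = 5616
  big : ∀ x : G, x ≠ 1 → 16 ≤ (centralizer ({x} : Set G)).index

variable {G : Type*} [Group G] (C : Config G)

theorem Config.exists_conj (g : G) (i : Lab) : ∃ j, C.τ j = g * C.τ i * g⁻¹ := by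
  obtain ⟨h1, h2⟩ := (C.long _).2 ⟨i, rfl⟩
  refine (C.long _).1 ⟨fun e => h1 ?_, ?_⟩
  · rwa [mul_inv_eq_one, mul_eq_left] at e
  · refine h2.trans (dvd_of_eq ?_)
    have hmap : (centralizer ({C.τ i} : Set G)).map (MulAut.conj g).toMonoidHom =
        centralizer ({g * C.τ i * g⁻¹} : Set G) := by
      ext y
      constructor
      · rintro ⟨z, hz, rfl⟩
        rw [SetLike.mem_coe, mem_centralizer_singleton_iff] at hz
        rw [mem_centralizer_singleton_iff]
        change g * z * g⁻¹ * (g * C.τ i * g⁻¹) = g * C.τ i * g⁻¹ * (g * z * g⁻¹)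
        calc g * z * g⁻¹ * (g * C.τ i * g⁻¹) = g * (z * C.τ i) * g⁻¹ := by group
          _ = g * (C.τ i * z) * g⁻¹ := by rw [hz]
          _ = g * C.τ i * g⁻¹ * (g * z * g⁻¹) := by group
      · intro hy
        rw [mem_centralizer_singleton_iff] at hy
        refine ⟨g⁻¹ * y * g, ?_, by simp [mul_assoc]⟩
        rw [SetLike.mem_coe, mem_centralizer_singleton_iff]
        calc g⁻¹ * y * g * C.τ i = g⁻¹ * (y * (g * C.τ i * g⁻¹)) * g := by group
          _ = g⁻¹ * (g * C.τ i * g⁻¹ * y) * g := by rw [hy]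
          _ = C.τ i * (g⁻¹ * y * g) := by group
    rw [← hmap, card_map_of_injective (MulAut.conj g).injective]

/-- The flag moved by conjugation. -/
noncomputable def Config.act (g : G) (f : Flag) : Flag := (C.exists_conj g (f, 0)).choose.1

theorem Config.adj_act (g : G) {i j i' j' : Lab} (hi : C.τ i' = g * C.τ i * g⁻¹)
    (hj : C.τ j' = g * C.τ j * g⁻¹) : fadj i'.1 j'.1 = fadj i.1 j.1 := by
  rw [Bool.eq_iff_iff, ← C.comm, ← C.comm, hi, hj]
  constructor
  · intro e
    exact mul_left_cancel (a := g) (mul_right_cancel (b := g⁻¹) (by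
      calc g * (C.τ i * C.τ j) * g⁻¹ = g * C.τ i * g⁻¹ * (g * C.τ j * g⁻¹) := by group
        _ = g * C.τ j * g⁻¹ * (g * C.τ i * g⁻¹) := e
        _ = g * (C.τ j * C.τ i) * g⁻¹ := by group))
  · intro e
    calc g * C.τ i * g⁻¹ * (g * C.τ j * g⁻¹) = g * (C.τ i * C.τ j) * g⁻¹ := by group
      _ = g * (C.τ j * C.τ i) * g⁻¹ := by rw [e]
      _ = g * C.τ j * g⁻¹ * (g * C.τ i * g⁻¹) := by group

theorem Config.act_eq (g : G) {i j : Lab} (hj : C.τ j = g * C.τ i * g⁻¹) : C.act g i.1 = j.1 := by
  refine fadj_separates _ _ fun h => ?_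
  obtain ⟨k, hk⟩ := C.exists_conj g⁻¹ (h, 0)
  have hk' : C.τ (h, 0) = g * C.τ k * g⁻¹ := by rw [hk]; group
  exact (C.adj_act g (C.exists_conj g (i.1, 0)).choose_spec hk').trans (C.adj_act g hj hk').symm

theorem Config.act_one (f : Flag) : C.act 1 f = f :=
  C.act_eq 1 (i := (f, 0)) (j := (f, 0)) (by group)

theorem Config.act_mul (g h : G) (f : Flag) : C.act (g * h) f = C.act g (C.act h f) := by
  obtain ⟨j, hj⟩ := C.exists_conj h (f, 0)
  obtain ⟨k, hk⟩ := C.exists_conj g j
  rw [C.act_eq h hj, C.act_eq g hk]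
  exact C.act_eq (g * h) (i := (f, 0)) (by rw [hk, hj]; group)

/-- The action on flags. -/
noncomputable def Config.hom : G →* auts :=
  MonoidHom.mk' (fun g => ⟨⟨C.act g, C.act g⁻¹, fun f => by rw [← C.act_mul, inv_mul_cancel, C.act_one],
      fun f => by rw [← C.act_mul, mul_inv_cancel, C.act_one]⟩, fun f h => by
        obtain ⟨i, hi⟩ := C.exists_conj g (f, 0)
        obtain ⟨j, hj⟩ := C.exists_conj g (h, 0)
        change fadj (C.act g f) (C.act g h) = _
        rw [C.act_eq g (i := (f, 0)) hi, C.act_eq g (i := (h, 0)) hj]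
        exact C.adj_act g (i := (f, 0)) (j := (h, 0)) hi hj⟩)
    fun g h => Subtype.ext (Equiv.ext (C.act_mul g h))

theorem Config.hom_injective [Finite G] : Function.Injective C.hom := by
  classical
  rw [← MonoidHom.ker_eq_bot_iff]
  set K := C.hom.ker
  have hsq : ∀ k ∈ K, k * k = 1 := by
    intro k hk
    refine C.sep _ fun i => ?_
    have hfix : ∀ f, C.act k f = f := fun f =>
      Equiv.ext_iff.1 (congrArg Subtype.val (MonoidHom.mem_ker.1 hk)) f
    obtain ⟨j, hj⟩ := C.exists_conj k i
    obtain ⟨l, hl⟩ := C.exists_conj k j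
    have h1 : j.1 = i.1 := (C.act_eq k hj).symm.trans (hfix _)
    have h2 : l.1 = i.1 := ((C.act_eq k hl).symm.trans (hfix _)).trans h1
    have h3 : l = i := by
      by_cases e : j.2 = i.2
      · have ej : j = i := Prod.ext h1 e
        subst ej
        exact C.inj (hl.trans hj.symm)
      · refine Prod.ext h2 ?_
        by_contra e'
        have hlj : l = j := Prod.ext (h2.trans h1.symm) (by
          revert e e'
          generalize l.2 = a, j.2 = b, i.2 = c
          decide +revert)
        subst hlj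
        exact e (congrArg Prod.snd (C.inj (mul_left_cancel (a := k) (mul_right_cancel (b := k⁻¹)
          (hj.symm.trans hl)))).symm)
    subst h3
    calc k * k * C.τ l = k * (k * C.τ l * k⁻¹) * k⁻¹ * (k * k) := by group
      _ = C.τ l * (k * k) := by rw [← hj, ← hl]
  by_contra hK
  haveI : Fact (Nat.Prime 2) := ⟨Nat.prime_two⟩
  obtain ⟨n, hn⟩ := IsPGroup.iff_card.1
    (show IsPGroup 2 K from fun x => ⟨1, Subtype.ext (by rw [pow_one, sq, coe_mul, hsq x x.2, coe_one])⟩)
  have hle : Nat.card K ≤ 16 := by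
    have hd : 2 ^ n ∣ 5616 := hn ▸ C.card ▸ K.card_subgroup_dvd_card
    rw [hn]
    by_contra h
    have : 2 ^ 5 ∣ 2 ^ n := pow_dvd_pow 2 (by
      by_contra h'
      have := pow_le_pow_right₀ (show 1 ≤ 2 by norm_num) (show n ≤ 4 by omega)
      omega)
    have := this.trans hd
    norm_num at this
  obtain ⟨⟨k, hk⟩, hk1⟩ := (Subgroup.ne_bot_iff_exists_ne_one).1 hK
  have hk1' : k ≠ 1 := fun e => hk1 (Subtype.ext e)
  have hbig := C.big k hk1'
  have hsub : MulAction.orbit (ConjAct G) k ⊆ (K : Set G) \ {1} := by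
    intro y hy
    rw [ConjAct.mem_orbit_conjAct] at hy
    obtain ⟨c, rfl⟩ := isConj_iff.1 hy.symm
    exact ⟨(inferInstance : K.Normal).conj_mem k hk c, fun e => hk1' (by
      rw [Set.mem_singleton_iff, mul_inv_eq_one, mul_eq_left] at e
      exact e)⟩
  have h1 := Set.ncard_le_ncard hsub (Set.toFinite _)
  rw [← MulAction.index_stabilizer, ConjAct.stabilizer_eq_centralizer] at h1
  rw [Set.ncard_sdiff_singleton_of_mem K.one_mem] at h1
  have h2 : (K : Set G).ncard = Nat.card K := (Nat.card_coe_set_eq (K : Set G)).symm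
  have : 16 ≤ (centralizer ({k} : Set G)).index := hbig
  change (centralizer ({k} : Set G)).index ≤ _ at h1
  omega

include C in
/-- Two such groups are isomorphic, one of them being simple. -/
theorem nonempty_equiv {M : Type*} [Group M] [Finite G] [Finite M] [IsSimpleGroup M] (D : Config M) :
    Nonempty (G ≃* M) := by
  classical
  set R := C.hom.range
  have hR : Nat.card R = 5616 :=
    (Nat.card_congr (MonoidHom.ofInjective C.hom_injective).toEquiv).symm.trans C.card
  have hidx : R.index ≤ 2 := by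
    have h := R.card_mul_index
    rw [hR] at h
    have := card_auts_le
    omega
  have hle : D.hom.range ≤ R := by
    have hn : R.index ≠ 0 := Subgroup.index_ne_zero_of_finite
    have hle' : (R.comap D.hom).index ≤ 2 := by
      rw [Subgroup.index_comap]
      exact (Subgroup.relIndex_le_of_le_right le_top (by rwa [Subgroup.relIndex_top_right])).trans
        (by rwa [Subgroup.relIndex_top_right])
    have hn' : (R.comap D.hom).index ≠ 0 := Subgroup.index_ne_zero_of_finite
    have htop : R.comap D.hom = ⊤ := by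
      rcases (show (R.comap D.hom).index = 1 ∨ (R.comap D.hom).index = 2 by omega) with h | h
      · exact Subgroup.index_eq_one.1 h
      · exfalso
        rcases (Subgroup.normal_of_index_eq_two h).eq_bot_or_eq_top with e | e
        · rw [e, Subgroup.index_bot, D.card] at h
          omega
        · rw [e, Subgroup.index_top] at h
          omega
    rintro _ ⟨m, rfl⟩
    exact (htop.symm ▸ Subgroup.mem_top m : m ∈ R.comap D.hom)
  have heq : D.hom.range = R := Subgroup.eq_of_le_of_card_ge hle (by
    rw [hR, ← Nat.card_congr (MonoidHom.ofInjective D.hom_injective).toEquiv, D.card])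
  exact ⟨(MonoidHom.ofInjective C.hom_injective).trans
    ((MulEquiv.subgroupCongr heq.symm).trans (MonoidHom.ofInjective D.hom_injective).symm)⟩

/-- The pattern passes along an isomorphism of commuting graphs. -/
theorem exists_config_of_commuting {H M : Type*} [Group H] [Finite H] [Group M] [Finite M] (D : Config M)
    (f : {h : H // h ≠ 1} ≃ {g : M // g ≠ 1})
    (hf : ∀ x y : {h : H // h ≠ 1}, (x : H) * y = y * x ↔ (f x : M) * f y = f y * f x) :
    Nonempty (Config H) := by
  classical
  haveI := Fintype.ofFinite H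
  haveI := Fintype.ofFinite M
  have hcard : Nat.card H = 5616 := by
    have h := Fintype.card_congr f
    rw [Fintype.card_subtype_compl, Fintype.card_subtype_eq, Fintype.card_subtype_compl,
      Fintype.card_subtype_eq, ← Nat.card_eq_fintype_card, ← Nat.card_eq_fintype_card, D.card] at h
    have : 0 < Nat.card H := Nat.card_pos
    omega
  have hC : ∀ x : {h : H // h ≠ 1},
      Nat.card (centralizer ({(x : H)} : Set H)) = Nat.card (centralizer ({(f x : M)} : Set M)) := by
    intro x
    refine Nat.card_congr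
      { toFun := fun y => if e : (y : H) = 1 then ⟨1, Subgroup.one_mem _⟩ else
          ⟨(f ⟨y, e⟩ : M), mem_centralizer_singleton_iff.2
            ((hf ⟨y, e⟩ x).1 (mem_centralizer_singleton_iff.1 y.2))⟩
        invFun := fun z => if e : (z : M) = 1 then ⟨1, Subgroup.one_mem _⟩ else
          ⟨(f.symm ⟨z, e⟩ : H), mem_centralizer_singleton_iff.2 ((hf (f.symm ⟨z, e⟩) x).2 (by
            rw [Equiv.apply_symm_apply]
            exact mem_centralizer_singleton_iff.1 z.2))⟩
        left_inv := fun y => ?_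
        right_inv := fun z => ?_ }
    · by_cases e : (y : H) = 1
      · simp only [e, dite_true]
        exact Subtype.ext e.symm
      · simp only [e, dite_false, (f ⟨(y : H), e⟩).2, Equiv.symm_apply_apply, Subtype.coe_eta]
    · by_cases e : (z : M) = 1
      · simp only [e, dite_true]
        exact Subtype.ext e.symm
      · simp only [e, dite_false, (f.symm ⟨(z : M), e⟩).2, Equiv.apply_symm_apply, Subtype.coe_eta]
  have hidx : ∀ x : {h : H // h ≠ 1},
      (centralizer ({(x : H)} : Set H)).index = (centralizer ({(f x : M)} : Set M)).index := by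
    intro x
    have h1 := (centralizer ({(x : H)} : Set H)).card_mul_index
    have h2 := (centralizer ({(f x : M)} : Set M)).card_mul_index
    rw [hcard, hC x] at h1
    rw [D.card] at h2
    exact Nat.eq_of_mul_eq_mul_left Nat.card_pos (h1.trans h2.symm)
  have hne : ∀ i, D.τ i ≠ 1 := fun i => ((D.long _).2 ⟨i, rfl⟩).1
  refine ⟨⟨fun i => (f.symm ⟨D.τ i, hne i⟩ : H), fun i j e => D.inj ?_, fun x => ⟨?_, ?_⟩, fun i j => ?_,
    fun x hx => ?_, hcard, fun x hx => ?_⟩⟩
  · exact congrArg Subtype.val (f.symm.injective (Subtype.ext e))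
  · rintro ⟨hx, hd⟩
    obtain ⟨i, hi⟩ := (D.long (f ⟨x, hx⟩ : M)).1 ⟨(f ⟨x, hx⟩).2, (hC ⟨x, hx⟩) ▸ hd⟩
    refine ⟨i, ?_⟩
    simp only [hi, Subtype.coe_eta, Equiv.symm_apply_apply]
  · rintro ⟨i, rfl⟩
    refine ⟨(f.symm ⟨D.τ i, hne i⟩).2, ?_⟩
    rw [hC, Equiv.apply_symm_apply]
    exact ((D.long _).2 ⟨i, rfl⟩).2
  · rw [hf, Equiv.apply_symm_apply, Equiv.apply_symm_apply]
    exact D.comm i j
  · by_contra h1
    refine (f ⟨x, h1⟩).2 (D.sep _ fun i => ?_)
    have h := (hf ⟨x, h1⟩ (f.symm ⟨D.τ i, hne i⟩)).1 (hx i)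
    rwa [Equiv.apply_symm_apply] at h
  · rw [hidx ⟨x, hx⟩]
    exact D.big _ (f ⟨x, hx⟩).2

end Cfsg.Agent.Recognition.PlaneThree
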