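import Mathlib
import Cfsg.Agent.Recognition.PlaneThree.Group
import Cfsg.Agent.Lib.Classical.Linear
import Cfsg.Agent.Lib.Characters.Burnside

/-!
# The transvection pattern of `SL(3, 3)`
-/

set_option autoImplicit false

namespace Cfsg.Agent.Recognition.PlaneThree

open Matrix Subgroup

/-- The group. -/
abbrev SL33 := SpecialLinearGroup (Fin 3) (ZMod 3)

/-- A point of the plane. -/
def vec : Fin 13 → Fin 3 → ZMod 3 :=
  ![![1, 0, 0], ![0, 1, 0], ![0, 0, 1], ![1, 1, 0], ![0, 1, 1], ![1, 1, 1], ![1, 2, 1], ![1, 2, 2],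
    ![1, 0, 1], ![1, 2, 0], ![0, 1, 2], ![1, 1, 2], ![1, 0, 2]]

/-- A line of the plane. -/
def fn : Fin 13 → Fin 3 → ZMod 3 :=
  ![![0, 0, 1], ![1, 0, 0], ![1, 2, 0], ![1, 2, 1], ![0, 1, 2], ![1, 0, 2], ![1, 1, 0], ![1, 2, 2],
    ![1, 1, 2], ![1, 1, 1], ![0, 1, 1], ![1, 0, 1], ![0, 1, 0]]

/-- The transvection `1 + v φ`. -/
def rankOne (v φ : Fin 3 → ZMod 3) : Matrix (Fin 3) (Fin 3) (ZMod 3) :=
  fun r c => (if r = c then 1 else 0) + v r * φ c

/-- The matrix of a label. -/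
def tmat (i : Lab) : Matrix (Fin 3) (Fin 3) (ZMod 3) :=
  rankOne (fun r => (i.2.val + 1 : ℕ) * vec i.1.1 r) (fn (ln i.1))

theorem det_tmat : ∀ i, (tmat i).det = 1 := by decide +kernel

/-- The transvection of a label. -/
def tau (i : Lab) : SL33 := ⟨tmat i, det_tmat i⟩

/-- Matrices carrying the transvections at the first flag to the others. -/
def carry : List (List (ZMod 3)) := [
  [1, 0, 0, 0, 1, 0, 0, 0, 1], [1, 0, 0, 0, 0, 1, 0, 2, 0], [1, 0, 0, 0, 1, 0, 0, 2, 1],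
  [1, 0, 0, 0, 2, 0, 0, 2, 2], [0, 0, 1, 1, 0, 0, 0, 1, 0], [0, 2, 0, 1, 0, 0, 0, 0, 1],
  [0, 2, 0, 1, 0, 0, 0, 1, 1], [0, 1, 0, 1, 0, 0, 0, 1, 2], [0, 2, 0, 0, 2, 1, 2, 0, 0],
  [0, 0, 1, 0, 2, 0, 1, 0, 0], [0, 1, 0, 0, 0, 1, 1, 0, 0], [0, 1, 0, 0, 2, 1, 1, 0, 0],
  [1, 0, 0, 1, 1, 0, 0, 1, 1], [1, 0, 0, 1, 0, 2, 0, 1, 0], [1, 0, 0, 1, 1, 0, 0, 0, 1],
  [1, 0, 0, 1, 2, 0, 0, 1, 2], [0, 1, 0, 1, 0, 0, 1, 0, 2], [0, 2, 0, 1, 0, 0, 1, 1, 1],
  [0, 0, 1, 1, 0, 0, 1, 1, 0], [0, 1, 0, 1, 0, 0, 1, 1, 2], [1, 0, 0, 1, 2, 0, 1, 0, 2],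
  [1, 0, 0, 1, 2, 0, 1, 2, 2], [1, 0, 0, 1, 0, 2, 1, 1, 0], [1, 0, 0, 1, 1, 0, 1, 2, 1],
  [1, 0, 0, 2, 0, 1, 1, 2, 0], [1, 0, 0, 2, 2, 0, 1, 0, 2], [1, 0, 0, 2, 1, 0, 1, 1, 1],
  [1, 0, 0, 2, 1, 0, 1, 2, 1], [1, 0, 0, 2, 2, 0, 2, 1, 2], [1, 0, 0, 2, 0, 1, 2, 2, 0],
  [1, 0, 0, 2, 2, 0, 2, 2, 2], [1, 0, 0, 2, 1, 0, 2, 0, 1], [1, 0, 0, 0, 2, 0, 1, 2, 2],
  [1, 0, 0, 0, 2, 0, 1, 1, 2], [1, 0, 0, 0, 2, 0, 1, 0, 2], [1, 0, 0, 0, 0, 1, 1, 2, 0],
  [1, 0, 0, 2, 1, 0, 0, 2, 1], [1, 0, 0, 2, 2, 0, 0, 2, 2], [1, 0, 0, 2, 0, 1, 0, 2, 0],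
  [1, 0, 0, 2, 1, 0, 0, 0, 1], [0, 2, 0, 1, 0, 0, 2, 0, 1], [0, 2, 0, 1, 0, 0, 2, 1, 1],
  [0, 1, 0, 1, 0, 0, 2, 1, 2], [0, 0, 1, 1, 0, 0, 2, 1, 0], [1, 0, 0, 1, 1, 0, 2, 0, 1],
  [1, 0, 0, 1, 1, 0, 2, 2, 1], [1, 0, 0, 1, 2, 0, 2, 2, 2], [1, 0, 0, 1, 0, 2, 2, 1, 0],
  [1, 0, 0, 0, 0, 1, 2, 2, 0], [1, 0, 0, 0, 1, 0, 2, 0, 1], [1, 0, 0, 0, 1, 0, 2, 2, 1],
  [1, 0, 0, 0, 1, 0, 2, 1, 1]]

/-- The matrix carrying to a flag. -/
def gmat (f : Flag) : Matrix (Fin 3) (Fin 3) (ZMod 3) :=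
  fun r c => (carry.getD (4 * f.1.val + f.2.val) []).getD (3 * r.val + c.val) 0

theorem det_gmat : ∀ f, (gmat f).det = 1 := by decide +kernel

/-- The element carrying to a flag. -/
def gel (f : Flag) : SL33 := ⟨gmat f, det_gmat f⟩

/-- The upper unitriangular matrix. -/
def umat (a b c : ZMod 3) : Matrix (Fin 3) (Fin 3) (ZMod 3) := !![1, a, b; 0, 1, c; 0, 0, 1]

theorem det_umat : ∀ a b c, (umat a b c).det = 1 := by decide +kernel

/-- The upper unitriangular element. -/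
def uel (a b c : ZMod 3) : SL33 := ⟨umat a b c, det_umat a b c⟩

theorem uel_mul : ∀ a b c a' b' c', uel a b c * uel a' b' c' = uel (a + a') (b + b' + a * c') (c + c') := by
  decide +kernel

/-- A Sylow 3-subgroup. -/
def upper : Subgroup SL33 where
  carrier := Set.range fun x : ZMod 3 × ZMod 3 × ZMod 3 => uel x.1 x.2.1 x.2.2
  one_mem' := ⟨(0, 0, 0), by decide +kernel⟩
  mul_mem' := by
    rintro _ _ ⟨x, rfl⟩ ⟨y, rfl⟩
    exact ⟨(x.1 + y.1, x.2.1 + y.2.1 + x.1 * y.2.2, x.2.2 + y.2.2), (uel_mul _ _ _ _ _ _).symm⟩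
  inv_mem' := by
    rintro _ ⟨x, rfl⟩
    refine ⟨(-x.1, -x.2.1 + x.1 * x.2.2, -x.2.2), eq_inv_of_mul_eq_one_left ?_⟩
    change uel _ _ _ * uel _ _ _ = 1
    rw [uel_mul]
    revert x
    decide +kernel

theorem uel_injective : ∀ x y : ZMod 3 × ZMod 3 × ZMod 3,
    uel x.1 x.2.1 x.2.2 = uel y.1 y.2.1 y.2.2 → x = y := by decide +kernel

theorem card_upper : Nat.card upper = 27 := by
  change Nat.card (Set.range fun x : ZMod 3 × ZMod 3 × ZMod 3 => uel x.1 x.2.1 x.2.2) = 27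
  rw [Nat.card_range_of_injective uel_injective, Nat.card_prod, Nat.card_prod, Nat.card_zmod]

theorem carry_tau : ∀ f : Flag, ∀ s : Fin 2,
    gmat f * umat 0 (s.val + 1 : ℕ) 0 = tmat (f, s) * gmat f := by decide +kernel

theorem upper_central : ∀ a b c : ZMod 3, ∀ s : ZMod 3, uel a b c * uel 0 s 0 = uel 0 s 0 * uel a b c := by
  intro a b c s
  rw [uel_mul, uel_mul]
  congr 1 <;> ring

theorem tau_conj (i : Lab) :
    tau i = gel i.1 * uel 0 (i.2.val + 1 : ℕ) 0 * (gel i.1)⁻¹ := by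
  rw [eq_mul_inv_iff_mul_eq]
  exact (Subtype.ext (carry_tau i.1 i.2)).symm

theorem tau_ne_one : ∀ i, tau i ≠ 1 := by decide +kernel

theorem tau_dvd (i : Lab) : 27 ∣ Nat.card (centralizer ({tau i} : Set SL33)) := by
  rw [← card_upper, ← card_map_of_injective (f := (MulAut.conj (gel i.1)).toMonoidHom)
    (MulAut.conj _).injective]
  refine card_dvd_of_le ?_
  rintro _ ⟨_, ⟨⟨a, b, c⟩, rfl⟩, rfl⟩
  rw [mem_centralizer_singleton_iff, tau_conj]
  set g : SL33 := gel i.1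
  set u := uel a b c
  set w := uel 0 ((i.2.val + 1 : ℕ) : ZMod 3) 0
  change g * u * g⁻¹ * (g * w * g⁻¹) = g * w * g⁻¹ * (g * u * g⁻¹)
  calc g * u * g⁻¹ * (g * w * g⁻¹) = g * (u * w) * g⁻¹ := by group
    _ = g * (w * u) * g⁻¹ := by rw [show u * w = w * u from upper_central a b c _]
    _ = g * w * g⁻¹ * (g * u * g⁻¹) := by group

theorem rankOne_mem : ∀ v φ : Fin 3 → ZMod 3, φ 0 * v 0 + φ 1 * v 1 + φ 2 * v 2 = 0 → v ≠ 0 → φ ≠ 0 →
    ∃ i, tmat i = rankOne v φ := by decide +kernel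

theorem comm_list : ∀ i j : Lab, (tmat i * tmat j = tmat j * tmat i) ↔ fadj i.1 j.1 = true := by
  decide +kernel

theorem tmat_injective : ∀ i j : Lab, tmat i = tmat j → i = j := by decide +kernel

theorem card_SL33 : Nat.card (SpecialLinearGroup (Fin 3) (ZMod 3)) = 5616 := by
  have h := Cfsg.Agent.Classical.Linear.natCard_GL_eq_mul (F := ZMod 3) (n := Fin 3)
  rw [Matrix.card_GL_field, ZMod.card] at h
  simp [Fin.prod_univ_three] at h
  have := Nat.card_eq_fintype_card (α := SpecialLinearGroup (Fin 3) (ZMod 3))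
  omega

theorem center_SL33 : Subgroup.center SL33 = ⊥ := by
  rw [eq_bot_iff]
  intro A hA
  obtain ⟨r, hr, hA'⟩ := Matrix.SpecialLinearGroup.mem_center_iff.1 hA
  rw [Subgroup.mem_bot]
  refine Subtype.ext ?_
  rw [← hA']
  have : r = 1 := by
    clear hA'
    revert hr
    rw [Fintype.card_fin]
    revert r
    decide +kernel
  subst this
  simp

/-- The quotient map to the projective group. -/
noncomputable def projEquiv : SL33 ≃* Matrix.ProjectiveSpecialLinearGroup (Fin 3) (ZMod 3) :=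
  MulEquiv.ofBijective (QuotientGroup.mk' _) ⟨(MonoidHom.ker_eq_bot_iff _).1 (by
    rw [QuotientGroup.ker_mk', center_SL33]), QuotientGroup.mk'_surjective _⟩

instance isSimpleGroup_SL33 : IsSimpleGroup SL33 := by
  haveI : IsSimpleGroup (Matrix.ProjectiveSpecialLinearGroup (Fin 3) (ZMod 3)) :=
    Classical.Linear.isSimpleGroup_PSL (by rw [Fintype.card_fin])
  exact projEquiv.isSimpleGroup_congr.2 inferInstance

theorem small_divisor : ∀ c ∈ List.range 16, 5616 ∣ c.factorial → c ∣ 5616 → c = 13 := by decide +kernel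

theorem class_size {x : SL33} (hx : x ≠ 1) : 16 ≤ (centralizer ({x} : Set SL33)).index := by
  classical
  by_contra hlt
  set K := centralizer ({x} : Set SL33)
  have hne : K ≠ ⊤ := fun e => by
    have hz : x ∈ center SL33 := mem_center_iff.2 fun y =>
      mem_centralizer_singleton_iff.1 (show y ∈ K from e ▸ mem_top y)
    rw [center_SL33, mem_bot] at hz
    exact hx hz
  have hinj : Function.Injective (MulAction.toPermHom SL33 (SL33 ⧸ K)) := by
    rw [← MonoidHom.ker_eq_bot_iff, ← Subgroup.normalCore_eq_ker]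
    refine (K.normalCore_normal.eq_bot_or_eq_top).resolve_right fun e => hne ?_
    exact top_le_iff.1 (e ▸ K.normalCore_le)
  have hd : 5616 ∣ K.index.factorial := by
    have h := Subgroup.card_dvd_of_injective _ hinj
    rw [card_SL33, Nat.card_perm] at h
    exact h
  have hd' : K.index ∣ 5616 := card_SL33 ▸ K.index_dvd_card
  have h13 := small_divisor K.index (List.mem_range.2 (by omega)) hd hd'
  have hp := Characters.simple_prime_power_class (p := 13) (k := 1) (by norm_num) hx (by rw [pow_one]; exact h13)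
  rw [card_SL33] at hp
  norm_num at hp

theorem centralizing_upper : ∀ a b c d e f g h k : ZMod 3,
    (d = 0 ∧ g = 0 ∧ h = 0 ∧ e = a ∧ f = 0 ∧ b = 0 ∧ k = a ∧ a * a * a = 1) →
      (fun r s => ![![a, b, c], ![d, e, f], ![g, h, k]] r s) = rankOne ![c, 0, 0] ![0, 0, 1] := by
  rintro a b c d e f g h k ⟨rfl, rfl, rfl, rfl, rfl, rfl, rfl, ha⟩
  have key : ∀ z : ZMod 3, z * z * z = 1 → z = 1 := by decide +kernel
  have h1 := key _ ha
  subst h1
  funext r s
  fin_cases r <;> fin_cases s <;> simp [rankOne]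

theorem exists_rankOne {y : SL33} (h1 : y * uel 1 0 0 = uel 1 0 0 * y) (h2 : y * uel 0 0 1 = uel 0 0 1 * y) :
    ∃ c : ZMod 3, (y : Matrix (Fin 3) (Fin 3) (ZMod 3)) = rankOne ![c, 0, 0] ![0, 0, 1] := by
  set A := (y : Matrix (Fin 3) (Fin 3) (ZMod 3)) with hA
  have e1 : A * umat 1 0 0 = umat 1 0 0 * A := congrArg Subtype.val h1
  have e2 : A * umat 0 0 1 = umat 0 0 1 * A := congrArg Subtype.val h2
  have f : ∀ r s, (A * umat 1 0 0) r s = (umat 1 0 0 * A) r s := fun r s => by rw [e1]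
  have g : ∀ r s, (A * umat 0 0 1) r s = (umat 0 0 1 * A) r s := fun r s => by rw [e2]
  have f00 := f 0 0
  have f01 := f 0 1
  have f02 := f 0 2
  have f11 := f 1 1
  have f21 := f 2 1
  have g12 := g 1 2
  have g02 := g 0 2
  have g10 := g 1 0
  have g11 := g 1 1
  simp [umat, Matrix.mul_apply, Fin.sum_univ_three] at f00 f01 f02 f11 f21 g12 g02 g10 g11
  have hdet := y.2
  rw [← hA, Matrix.det_fin_three] at hdet
  have h21 : A 2 1 = 0 := by linear_combination g11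
  have h12 : A 1 2 = 0 := f02
  have h22 : A 2 2 = A 0 0 := by linear_combination -f01 - g12
  have h11 : A 1 1 = A 0 0 := by linear_combination -f01
  refine ⟨A 0 2, ?_⟩
  have h := centralizing_upper (A 0 0) (A 0 1) (A 0 2) (A 1 0) (A 1 1) (A 1 2) (A 2 0) (A 2 1) (A 2 2)
    ⟨f00, g10, h21, h11, h12, g02, h22, ?_⟩
  · rw [← h]
    funext r s
    fin_cases r <;> fin_cases s <;> rfl
  · rw [h21, h12, h11, h22, f00, g10] at hdet
    linear_combination hdet

set_option maxHeartbeats 1000000 in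
theorem long_iff (x : SL33) :
    (x ≠ 1 ∧ 27 ∣ Nat.card (centralizer ({x} : Set SL33))) ↔ ∃ i, tau i = x := by
  classical
  constructor
  swap
  · rintro ⟨i, rfl⟩
    exact ⟨tau_ne_one i, tau_dvd i⟩
  rintro ⟨hx, hd⟩
  haveI : Fact (Nat.Prime 3) := ⟨Nat.prime_three⟩
  obtain ⟨P, hP⟩ := Sylow.exists_subgroup_card_pow_prime 3 (n := 3)
    (show 3 ^ 3 ∣ Nat.card (centralizer ({x} : Set SL33)) from hd)
  have hfac : Nat.factorization 5616 3 = 3 := by
    rw [show (5616 : ℕ) = 3 ^ 3 * 208 by norm_num,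
      Nat.factorization_mul (by norm_num) (by norm_num), Nat.Prime.factorization_pow Nat.prime_three]
    simp [Nat.factorization_eq_zero_of_not_dvd (show ¬ 3 ∣ 208 by norm_num)]
  let S : Sylow 3 SL33 := Sylow.ofCard (P.map (centralizer ({x} : Set SL33)).subtype) (by
    rw [card_map_of_injective (subtype_injective _), hP, card_SL33, hfac])
  let U : Sylow 3 SL33 := Sylow.ofCard upper (by rw [card_upper, card_SL33, hfac]; norm_num)
  obtain ⟨g, hg⟩ := MulAction.exists_smul_eq SL33 S U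
  have hcomm : ∀ u ∈ upper, (g * x * g⁻¹) * u = u * (g * x * g⁻¹) := by
    intro u hu
    have hu' : u ∈ ((g • S : Sylow 3 SL33) : Subgroup SL33) := by rw [hg]; exact hu
    rw [Sylow.coe_subgroup_smul, mem_pointwise_smul_iff_inv_smul_mem] at hu'
    obtain ⟨z, -, hz⟩ := hu'
    have hz' := mem_centralizer_singleton_iff.1 z.2
    have hz2 : (z : SL33) = g⁻¹ * u * g⁻¹⁻¹ := hz.trans (by simp [MulAut.smul_def])
    rw [hz2, inv_inv] at hz'
    calc g * x * g⁻¹ * u = g * (x * (g⁻¹ * u * g)) * g⁻¹ := by group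
      _ = g * (g⁻¹ * u * g * x) * g⁻¹ := by rw [hz']
      _ = u * (g * x * g⁻¹) := by group
  obtain ⟨c, hc⟩ := exists_rankOne (hcomm _ ⟨(1, 0, 0), rfl⟩) (hcomm _ ⟨(0, 0, 1), rfl⟩)
  set G' := ((g⁻¹ : SL33) : Matrix (Fin 3) (Fin 3) (ZMod 3)) with hG'
  set G'' := (g : Matrix (Fin 3) (Fin 3) (ZMod 3)) with hG''
  have hprod : G' * G'' = 1 := by
    exact congrArg Subtype.val (inv_mul_cancel g)
  have hxm : (x : Matrix (Fin 3) (Fin 3) (ZMod 3)) = rankOne (fun r => c * G' r 0) (fun s => G'' 2 s) := by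
    have h1 : x = g⁻¹ * (g * x * g⁻¹) * g := by group
    conv_lhs => rw [h1]
    change G' * ((g * x * g⁻¹ : SL33) : Matrix (Fin 3) (Fin 3) (ZMod 3)) * G'' = _
    rw [hc]
    ext r s
    have e : ∑ t, G' r t * G'' t s = if r = s then 1 else 0 := by
      rw [← Matrix.mul_apply, hprod, Matrix.one_apply]
    rw [Fin.sum_univ_three] at e
    simp [rankOne, Matrix.mul_apply, Fin.sum_univ_three]
    linear_combination e
  have hdot : ∑ t, G'' 2 t * G' t 0 = 0 := by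
    have e : (G'' * G') 2 0 = (1 : Matrix (Fin 3) (Fin 3) (ZMod 3)) 2 0 := by
      exact congrFun (congrFun (congrArg Subtype.val (mul_inv_cancel g)) 2) 0
    simpa [Matrix.mul_apply] using e
  rw [Fin.sum_univ_three] at hdot
  have hone : rankOne (fun _ => 0) (fun s => G'' 2 s) = 1 := by
    ext r s
    simp [rankOne, Matrix.one_apply]
  have hv : (fun r => c * G' r 0) ≠ 0 := fun e => hx (Subtype.ext (by
    rw [hxm, e]; exact hone))
  have hφ : (fun s => G'' 2 s) ≠ 0 := fun e => hx (Subtype.ext (by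
    rw [hxm, e]
    ext r s
    simp [rankOne, Matrix.one_apply]))
  obtain ⟨i, hi⟩ := rankOne_mem _ _ (by linear_combination c * hdot) hv hφ
  exact ⟨i, Subtype.ext (hi.trans hxm.symm)⟩

/-- The pattern in `SL(3, 3)`. -/
def configSL33 : Config SL33 where
  τ := tau
  inj := fun i j e => tmat_injective i j (congrArg Subtype.val e)
  long := long_iff
  comm := fun i j => by
    rw [← comm_list]
    exact ⟨fun e => congrArg Subtype.val e, fun e => Subtype.ext e⟩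
  card := card_SL33
  big := fun _ hx => class_size hx
  sep := fun x hx => by
    have hset : ∀ g : SL33, ∀ i, ∃ j, tau j = g * tau i * g⁻¹ := by
      intro g i
      refine (long_iff _).1 ⟨fun e => tau_ne_one i (by rwa [mul_inv_eq_one, mul_eq_left] at e), ?_⟩
      refine (tau_dvd i).trans ?_
      rw [← card_map_of_injective (f := (MulAut.conj g).toMonoidHom) (MulAut.conj g).injective]
      refine card_dvd_of_le ?_
      rintro _ ⟨z, hz, rfl⟩
      rw [SetLike.mem_coe, mem_centralizer_singleton_iff] at hz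
      rw [mem_centralizer_singleton_iff]
      change g * z * g⁻¹ * (g * tau i * g⁻¹) = g * tau i * g⁻¹ * (g * z * g⁻¹)
      calc g * z * g⁻¹ * (g * tau i * g⁻¹) = g * (z * tau i) * g⁻¹ := by group
        _ = g * (tau i * z) * g⁻¹ := by rw [hz]
        _ = g * tau i * g⁻¹ * (g * z * g⁻¹) := by group
    let Z : Subgroup SL33 := centralizer (Set.range tau)
    have hZ : Z.Normal := by
      refine ⟨fun z hz g => mem_centralizer_iff.2 ?_⟩
      rintro _ ⟨i, rfl⟩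
      obtain ⟨j, hj⟩ := hset g⁻¹ i
      have h := mem_centralizer_iff.1 hz (tau j) ⟨j, rfl⟩
      rw [hj] at h
      calc tau i * (g * z * g⁻¹) = g * (g⁻¹ * tau i * g⁻¹⁻¹ * z) * g⁻¹ := by group
        _ = g * (z * (g⁻¹ * tau i * g⁻¹⁻¹)) * g⁻¹ := by rw [h]
        _ = g * z * g⁻¹ * tau i := by group
    have hxZ : x ∈ Z := mem_centralizer_iff.2 (by rintro _ ⟨i, rfl⟩; exact (hx i).symm)
    rcases hZ.eq_bot_or_eq_top with e | e
    · rwa [e, mem_bot] at hxZ
    · exfalso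
      refine tau_ne_one ((0, 0), 0) ?_
      have hz : tau ((0, 0), 0) ∈ center SL33 := mem_center_iff.2 fun y =>
        (mem_centralizer_iff.1 (show y ∈ Z from e ▸ mem_top y) _ ⟨((0, 0), 0), rfl⟩).symm
      rwa [center_SL33, mem_bot] at hz

/-- The group of the commuting graph of `PSL(3, 3)`. -/
theorem equiv_of_commuting {H : Type*} [Group H] [Finite H]
    (f : {h : H // h ≠ 1} ≃ {g : Matrix.ProjectiveSpecialLinearGroup (Fin 3) (ZMod 3) // g ≠ 1})
    (hf : ∀ x y : {h : H // h ≠ 1}, (x : H) * y = y * x ↔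
      ((f x) : Matrix.ProjectiveSpecialLinearGroup (Fin 3) (ZMod 3)) * (f y) = (f y) * (f x)) :
    Nonempty (H ≃* Matrix.ProjectiveSpecialLinearGroup (Fin 3) (ZMod 3)) := by
  classical
  let f' : {h : H // h ≠ 1} ≃ {g : SL33 // g ≠ 1} :=
    f.trans (Equiv.subtypeEquiv projEquiv.symm.toEquiv fun g => not_congr projEquiv.symm.map_eq_one_iff.symm)
  have hf' : ∀ x y : {h : H // h ≠ 1}, (x : H) * y = y * x ↔ (f' x : SL33) * f' y = f' y * f' x := by
    intro x y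
    rw [hf x y]
    change _ ↔ projEquiv.symm (f x) * projEquiv.symm (f y) = projEquiv.symm (f y) * projEquiv.symm (f x)
    rw [← map_mul, ← map_mul, projEquiv.symm.injective.eq_iff]
  obtain ⟨C⟩ := exists_config_of_commuting configSL33 f' hf'
  exact (nonempty_equiv C configSL33).map fun e => e.trans projEquiv

end Cfsg.Agent.Recognition.PlaneThree
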